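import Cfsg.Agent.H568.EB.RegTree
import Cfsg.Agent.H694.CoxExc

/-!
# The number of regular elements of the Weyl groups of type `E₆` (TEAM EB, [U10])
-/

set_option autoImplicit false
set_option maxRecDepth 100000

namespace Cfsg.Agent.H568.EB

open Cfsg.Agent.ChevalleyStructure.CoxeterGeom Cfsg.Agent.Tits.Core Cfsg.Agent.Tits.OppRes
open Cfsg.Agent.ChevalleyStructure.CoxeterGeomTypes
open Cfsg.Agent.H694 Cfsg.Agent.H694.EB

/-- a subtree -/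
def TE6_0 : Tr :=
  (.nd (.nd (.nd (.nd (.nd (.nd (.nd .lf 5806216 .lf) 5863832 .lf) 5867417 (.nd (.nd .lf 5867671
  .lf) 5867896 .lf)) 5867912 (.nd (.nd (.nd .lf 5871481 .lf) 5871497 .lf) 5871735 (.nd (.nd .lf
  5871751 .lf) 5929097 .lf))) 5929113 (.nd (.nd (.nd (.nd .lf 5929351 .lf) 5929367 .lf) 5932936 (.nd
  (.nd .lf 5932952 .lf) 5933177 .lf)) 5933431 (.nd (.nd (.nd .lf 5937016 .lf) 5994632 .lf) 6785432
  (.nd .lf 6789017 .lf)))) 6789271 (.nd (.nd (.nd (.nd (.nd .lf 6789496 .lf) 6789512 .lf) 6793081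
  (.nd (.nd .lf 6793097 .lf) 6793335 .lf)) 6793351 (.nd (.nd (.nd .lf 6846633 .lf) 6846887 .lf)
  6847112 (.nd (.nd .lf 6847128 .lf) 6850472 .lf))) 6851192 (.nd (.nd (.nd (.nd .lf 6854282 .lf)
  6854298 .lf) 6854761 (.nd (.nd .lf 6854790 .lf) 6854793 .lf)) 6854806 (.nd (.nd (.nd .lf 6855015
  .lf) 6855047 .lf) 6858362 (.nd .lf 6858600 .lf))))) 6858632 (.nd (.nd (.nd (.nd (.nd (.nd .lf
  6858870 .lf) 6908313 .lf) 6908329 (.nd (.nd .lf 6908567 .lf) 6908583 .lf)) 6911898 (.nd (.nd (.nd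
  .lf 6911914 .lf) 6912377 .lf) 6912406 (.nd (.nd .lf 6912409 .lf) 6912422 .lf))) 6912631 (.nd (.nd
  (.nd (.nd .lf 6912663 .lf) 6915737 .lf) 6915753 (.nd (.nd .lf 6915962 .lf) 6915991 .lf)) 6915994
  (.nd (.nd (.nd .lf 6916007 .lf) 6916457 .lf) 6916470 (.nd .lf 6916473 .lf)))) 6916502 (.nd (.nd
  (.nd (.nd (.nd .lf 6916711 .lf) 6916727 .lf) 6919801 (.nd (.nd .lf 6919833 .lf) 6920042 .lf))
  6920055 (.nd (.nd (.nd .lf 6920058 .lf) 6920087 .lf) 6920550 (.nd .lf 6920566 .lf))) 6923881 (.nd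
  (.nd (.nd (.nd .lf 6923897 .lf) 6924135 .lf) 6924151 (.nd (.nd .lf 6973594 .lf) 6973832 .lf))
  6973864 (.nd (.nd (.nd .lf 6974102 .lf) 6977417 .lf) 6977449 (.nd .lf 6977658 .lf))))))

/-- a subtree -/
def TE6_1 : Tr :=
  (.nd (.nd (.nd (.nd (.nd (.nd (.nd .lf 6977674 .lf) 6977703 .lf) 6978166 (.nd (.nd .lf 6978182
  .lf) 6981272 .lf)) 6981992 (.nd (.nd (.nd .lf 6985336 .lf) 6985352 .lf) 6985577 (.nd (.nd .lf
  6985831 .lf) 7039113 .lf))) 7039129 (.nd (.nd (.nd (.nd .lf 7039367 .lf) 7039383 .lf) 7042952 (.nd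
  (.nd .lf 7042968 .lf) 7043193 .lf)) 7043447 (.nd (.nd (.nd .lf 7047032 .lf) 7772297 .lf) 7772313
  (.nd .lf 7772551 .lf)))) 7772567 (.nd (.nd (.nd (.nd (.nd .lf 7776136 .lf) 7776152 .lf) 7776377
  (.nd (.nd .lf 7776631 .lf) 7780216 .lf)) 7829913 (.nd (.nd (.nd .lf 7829929 .lf) 7830167 .lf)
  7830183 (.nd .lf 7833498 .lf))) 7833514 (.nd (.nd (.nd (.nd .lf 7833977 .lf) 7834006 .lf) 7834009
  (.nd (.nd .lf 7834022 .lf) 7834231 .lf)) 7834263 (.nd (.nd (.nd .lf 7837337 .lf) 7837353 .lf)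
  7837562 (.nd .lf 7837591 .lf))))) 7837594 (.nd (.nd (.nd (.nd (.nd (.nd .lf 7837607 .lf) 7838057
  .lf) 7838070 (.nd (.nd .lf 7838073 .lf) 7838102 .lf)) 7838311 (.nd (.nd (.nd .lf 7838327 .lf)
  7841401 .lf) 7841433 (.nd (.nd .lf 7841642 .lf) 7841655 .lf))) 7841658 (.nd (.nd (.nd (.nd .lf
  7841687 .lf) 7842150 .lf) 7842166 (.nd (.nd .lf 7845481 .lf) 7845497 .lf)) 7845735 (.nd (.nd (.nd
  .lf 7845751 .lf) 7891368 .lf) 7891384 (.nd .lf 7891609 .lf)))) 7891863 (.nd (.nd (.nd (.nd (.nd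
  .lf 7894953 .lf) 7894969 .lf) 7895178 (.nd (.nd .lf 7895207 .lf) 7895210 .lf)) 7895223 (.nd (.nd
  (.nd .lf 7895673 .lf) 7895686 .lf) 7895689 (.nd .lf 7895718 .lf))) 7895927 (.nd (.nd (.nd (.nd .lf
  7895943 .lf) 7898779 .lf) 7899496 (.nd (.nd .lf 7899541 .lf) 7899544 .lf)) 7902618 (.nd (.nd (.nd
  .lf 7902843 .lf) 7902856 .lf) 7902859 (.nd .lf 7902888 .lf))))))

/-- a subtree -/
def TE6_2 : Tr :=
  (.nd (.nd (.nd (.nd (.nd (.nd (.nd .lf 7903126 .lf) 7903129 .lf) 7903335 (.nd (.nd .lf 7903338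
  .lf) 7903383 .lf)) 7903576 (.nd (.nd (.nd .lf 7903605 .lf) 7903608 .lf) 7903621 (.nd (.nd .lf
  7903846 .lf) 7906682 .lf))) 7906698 (.nd (.nd (.nd (.nd .lf 7907161 .lf) 7907190 .lf) 7907193 (.nd
  (.nd .lf 7907206 .lf) 7907415 .lf)) 7907447 (.nd (.nd (.nd .lf 7911016 .lf) 7953064 .lf) 7956633
  (.nd .lf 7956665 .lf)))) 7956874 (.nd (.nd (.nd (.nd (.nd .lf 7956887 .lf) 7956890 .lf) 7956919
  (.nd (.nd .lf 7957382 .lf) 7957398 .lf)) 7960234 (.nd (.nd (.nd .lf 7960459 .lf) 7960472 .lf)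
  7960475 (.nd .lf 7960504 .lf))) 7960697 (.nd (.nd (.nd (.nd .lf 7960742 .lf) 7960745 .lf) 7960951
  (.nd (.nd .lf 7960954 .lf) 7960999 .lf)) 7961192 (.nd (.nd (.nd .lf 7961221 .lf) 7961224 .lf)
  7961237 (.nd .lf 7961462 .lf))))) 7964536 (.nd (.nd (.nd (.nd (.nd (.nd .lf 7964539 .lf) 7964584
  .lf) 7965301 (.nd (.nd .lf 7968137 .lf) 7968153 .lf)) 7968362 (.nd (.nd (.nd .lf 7968391 .lf)
  7968394 .lf) 7968407 (.nd (.nd .lf 7968857 .lf) 7968870 .lf))) 7968873 (.nd (.nd (.nd (.nd .lf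
  7968902 .lf) 7969111 .lf) 7969127 (.nd (.nd .lf 7972217 .lf) 7972471 .lf)) 7972696 (.nd (.nd (.nd
  .lf 7972712 .lf) 8018329 .lf) 8018345 (.nd .lf 8018583 .lf)))) 8018599 (.nd (.nd (.nd (.nd (.nd
  .lf 8021914 .lf) 8021930 .lf) 8022393 (.nd (.nd .lf 8022422 .lf) 8022425 .lf)) 8022438 (.nd (.nd
  (.nd .lf 8022647 .lf) 8022679 .lf) 8025753 (.nd .lf 8025769 .lf))) 8025978 (.nd (.nd (.nd (.nd .lf
  8026007 .lf) 8026010 .lf) 8026023 (.nd (.nd .lf 8026473 .lf) 8026486 .lf)) 8026489 (.nd (.nd (.nd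
  .lf 8026518 .lf) 8026727 .lf) 8026743 (.nd .lf 8029817 .lf))))))

/-- a subtree -/
def TE6_3 : Tr :=
  (.nd (.nd (.nd (.nd (.nd (.nd (.nd .lf 8030058 .lf) 8030071 .lf) 8030074 (.nd (.nd .lf 8030103
  .lf) 8030566 .lf)) 8030582 (.nd (.nd (.nd .lf 8033897 .lf) 8033913 .lf) 8034151 (.nd (.nd .lf
  8034167 .lf) 8083864 .lf))) 8087449 (.nd (.nd (.nd (.nd .lf 8087703 .lf) 8087928 .lf) 8087944 (.nd
  (.nd .lf 8091513 .lf) 8091529 .lf)) 8091767 (.nd (.nd (.nd .lf 8091783 .lf) 8759432 .lf) 8816794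
  (.nd .lf 8817032 .lf)))) 8817064 (.nd (.nd (.nd (.nd (.nd .lf 8817302 .lf) 8820617 .lf) 8820649
  (.nd (.nd .lf 8820858 .lf) 8820871 .lf)) 8820874 (.nd (.nd (.nd .lf 8820903 .lf) 8821366 .lf)
  8821382 (.nd .lf 8824472 .lf))) 8825192 (.nd (.nd (.nd (.nd .lf 8828536 .lf) 8828552 .lf) 8828777
  (.nd (.nd .lf 8829031 .lf) 8874664 .lf)) 8878233 (.nd (.nd (.nd .lf 8878265 .lf) 8878474 .lf)
  8878487 (.nd .lf 8878490 .lf))))) 8878519 (.nd (.nd (.nd (.nd (.nd (.nd .lf 8878982 .lf) 8878998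
  .lf) 8881834 (.nd (.nd .lf 8882059 .lf) 8882072 .lf)) 8882075 (.nd (.nd (.nd .lf 8882104 .lf)
  8882297 .lf) 8882342 (.nd (.nd .lf 8882345 .lf) 8882551 .lf))) 8882554 (.nd (.nd (.nd (.nd .lf
  8882599 .lf) 8882792 .lf) 8882821 (.nd (.nd .lf 8882824 .lf) 8882837 .lf)) 8883062 (.nd (.nd (.nd
  .lf 8886136 .lf) 8886139 .lf) 8886184 (.nd .lf 8886901 .lf)))) 8889737 (.nd (.nd (.nd (.nd (.nd
  .lf 8889753 .lf) 8889962 .lf) 8889991 (.nd (.nd .lf 8889994 .lf) 8890007 .lf)) 8890457 (.nd (.nd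
  (.nd .lf 8890470 .lf) 8890473 .lf) 8890502 (.nd .lf 8890711 .lf))) 8890727 (.nd (.nd (.nd (.nd .lf
  8893817 .lf) 8894071 .lf) 8894296 (.nd (.nd .lf 8894312 .lf) 8939704 .lf)) 8940424 (.nd (.nd (.nd
  .lf 8943752 .lf) 8943755 .lf) 8943800 (.nd .lf 8944517 .lf))))))

/-- a subtree -/
def TE6_4 : Tr :=
  (.nd (.nd (.nd (.nd (.nd (.nd (.nd .lf 8951896 .lf) 8951941 .lf) 8951944 (.nd (.nd .lf 8955272
  .lf) 8955992 .lf)) 9001384 (.nd (.nd (.nd .lf 9001400 .lf) 9001625 .lf) 9001879 (.nd (.nd .lf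
  9004969 .lf) 9004985 .lf))) 9005194 (.nd (.nd (.nd (.nd .lf 9005223 .lf) 9005226 .lf) 9005239 (.nd
  (.nd .lf 9005689 .lf) 9005702 .lf)) 9005705 (.nd (.nd (.nd .lf 9005734 .lf) 9005943 .lf) 9005959
  (.nd .lf 9008795 .lf)))) 9009512 (.nd (.nd (.nd (.nd (.nd .lf 9009557 .lf) 9009560 .lf) 9012634
  (.nd (.nd .lf 9012859 .lf) 9012872 .lf)) 9012875 (.nd (.nd (.nd .lf 9012904 .lf) 9013097 .lf)
  9013142 (.nd .lf 9013145 .lf))) 9013351 (.nd (.nd (.nd (.nd .lf 9013354 .lf) 9013399 .lf) 9013592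
  (.nd (.nd .lf 9013621 .lf) 9013624 .lf)) 9013637 (.nd (.nd (.nd .lf 9013862 .lf) 9016698 .lf)
  9016714 (.nd .lf 9017177 .lf))))) 9017206 (.nd (.nd (.nd (.nd (.nd (.nd .lf 9017209 .lf) 9017222
  .lf) 9017431 (.nd (.nd .lf 9017463 .lf) 9021032 .lf)) 9066665 (.nd (.nd (.nd .lf 9066919 .lf)
  9067144 .lf) 9067160 (.nd (.nd .lf 9070504 .lf) 9071224 .lf))) 9074314 (.nd (.nd (.nd (.nd .lf
  9074330 .lf) 9074793 .lf) 9074822 (.nd (.nd .lf 9074825 .lf) 9074838 .lf)) 9075047 (.nd (.nd (.nd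
  .lf 9075079 .lf) 9078394 .lf) 9078632 (.nd .lf 9078664 .lf)))) 9078902 (.nd (.nd (.nd (.nd (.nd
  .lf 9136264 .lf) 9803913 .lf) 9803929 (.nd (.nd .lf 9804167 .lf) 9804183 .lf)) 9807752 (.nd (.nd
  (.nd .lf 9807768 .lf) 9807993 .lf) 9808247 (.nd .lf 9811832 .lf))) 9861529 (.nd (.nd (.nd (.nd .lf
  9861545 .lf) 9861783 .lf) 9861799 (.nd (.nd .lf 9865114 .lf) 9865130 .lf)) 9865593 (.nd (.nd (.nd
  .lf 9865622 .lf) 9865625 .lf) 9865638 (.nd .lf 9865847 .lf))))))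

/-- a subtree -/
def TE6_5 : Tr :=
  (.nd (.nd (.nd (.nd (.nd (.nd (.nd .lf 9868953 .lf) 9868969 .lf) 9869178 (.nd (.nd .lf 9869207
  .lf) 9869210 .lf)) 9869223 (.nd (.nd (.nd .lf 9869673 .lf) 9869686 .lf) 9869689 (.nd (.nd .lf
  9869718 .lf) 9869927 .lf))) 9869943 (.nd (.nd (.nd (.nd .lf 9873017 .lf) 9873049 .lf) 9873258 (.nd
  (.nd .lf 9873271 .lf) 9873274 .lf)) 9873303 (.nd (.nd (.nd .lf 9873766 .lf) 9873782 .lf) 9877097
  (.nd .lf 9877113 .lf)))) 9877351 (.nd (.nd (.nd (.nd (.nd .lf 9877367 .lf) 9922984 .lf) 9923000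
  (.nd (.nd .lf 9923225 .lf) 9923479 .lf)) 9926569 (.nd (.nd (.nd .lf 9926585 .lf) 9926794 .lf)
  9926823 (.nd .lf 9926826 .lf))) 9926839 (.nd (.nd (.nd (.nd .lf 9927289 .lf) 9927302 .lf) 9927305
  (.nd (.nd .lf 9927334 .lf) 9927543 .lf)) 9927559 (.nd (.nd (.nd .lf 9930395 .lf) 9931112 .lf)
  9931157 (.nd .lf 9931160 .lf))))) 9934234 (.nd (.nd (.nd (.nd (.nd (.nd .lf 9934459 .lf) 9934472
  .lf) 9934475 (.nd (.nd .lf 9934504 .lf) 9934697 .lf)) 9934742 (.nd (.nd (.nd .lf 9934745 .lf)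
  9934951 .lf) 9934954 (.nd (.nd .lf 9934999 .lf) 9935192 .lf))) 9935221 (.nd (.nd (.nd (.nd .lf
  9935224 .lf) 9935237 .lf) 9935462 (.nd (.nd .lf 9938298 .lf) 9938314 .lf)) 9938777 (.nd (.nd (.nd
  .lf 9938806 .lf) 9938809 .lf) 9938822 (.nd .lf 9939031 .lf)))) 9939063 (.nd (.nd (.nd (.nd (.nd
  .lf 9942632 .lf) 9984680 .lf) 9988249 (.nd (.nd .lf 9988281 .lf) 9988490 .lf)) 9988503 (.nd (.nd
  (.nd .lf 9988506 .lf) 9988535 .lf) 9988998 (.nd .lf 9989014 .lf))) 9991850 (.nd (.nd (.nd (.nd .lf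
  9992075 .lf) 9992088 .lf) 9992091 (.nd (.nd .lf 9992120 .lf) 9992313 .lf)) 9992358 (.nd (.nd (.nd
  .lf 9992361 .lf) 9992567 .lf) 9992570 (.nd .lf 9992615 .lf))))))

/-- a subtree -/
def TE6_6 : Tr :=
  (.nd (.nd (.nd (.nd (.nd (.nd (.nd .lf 9992837 .lf) 9992840 .lf) 9992853 (.nd (.nd .lf 9993078
  .lf) 9996152 .lf)) 9996155 (.nd (.nd (.nd .lf 9996200 .lf) 9996917 .lf) 9999753 (.nd (.nd .lf
  9999769 .lf) 9999978 .lf))) 10000007 (.nd (.nd (.nd (.nd .lf 10000010 .lf) 10000023 .lf) 10000473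
  (.nd (.nd .lf 10000486 .lf) 10000489 .lf)) 10000518 (.nd (.nd (.nd .lf 10000727 .lf) 10000743 .lf)
  10003833 (.nd .lf 10004087 .lf)))) 10004312 (.nd (.nd (.nd (.nd (.nd .lf 10004328 .lf) 10049945
  .lf) 10049961 (.nd (.nd .lf 10050199 .lf) 10050215 .lf)) 10053530 (.nd (.nd (.nd .lf 10053546 .lf)
  10054009 .lf) 10054038 (.nd .lf 10054041 .lf))) 10054054 (.nd (.nd (.nd (.nd .lf 10054263 .lf)
  10054295 .lf) 10057369 (.nd (.nd .lf 10057385 .lf) 10057594 .lf)) 10057623 (.nd (.nd (.nd .lf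
  10057626 .lf) 10057639 .lf) 10058089 (.nd .lf 10058102 .lf))))) 10058105 (.nd (.nd (.nd (.nd (.nd
  (.nd .lf 10058134 .lf) 10058343 .lf) 10058359 (.nd (.nd .lf 10061433 .lf) 10061465 .lf)) 10061674
  (.nd (.nd (.nd .lf 10061687 .lf) 10061690 .lf) 10061719 (.nd (.nd .lf 10062182 .lf) 10062198
  .lf))) 10065513 (.nd (.nd (.nd (.nd .lf 10065529 .lf) 10065767 .lf) 10065783 (.nd (.nd .lf
  10115480 .lf) 10119065 .lf)) 10119319 (.nd (.nd (.nd .lf 10119544 .lf) 10119560 .lf) 10123129 (.nd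
  .lf 10123145 .lf)))) 10123383 (.nd (.nd (.nd (.nd (.nd .lf 10123399 .lf) 10848664 .lf) 10852249
  (.nd (.nd .lf 10852503 .lf) 10852728 .lf)) 10852744 (.nd (.nd (.nd .lf 10856313 .lf) 10856329 .lf)
  10856567 (.nd .lf 10856583 .lf))) 10909865 (.nd (.nd (.nd (.nd .lf 10910119 .lf) 10910344 .lf)
  10910360 (.nd (.nd .lf 10913704 .lf) 10914424 .lf)) 10917514 (.nd (.nd (.nd .lf 10917530 .lf)
  10917993 .lf) 10918022 (.nd .lf 10918025 .lf))))))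

/-- a subtree -/
def TE6_7 : Tr :=
  (.nd (.nd (.nd (.nd (.nd (.nd (.nd .lf 10918247 .lf) 10918279 .lf) 10921594 (.nd (.nd .lf 10921832
  .lf) 10921864 .lf)) 10922102 (.nd (.nd (.nd .lf 10971545 .lf) 10971561 .lf) 10971799 (.nd (.nd .lf
  10971815 .lf) 10975130 .lf))) 10975146 (.nd (.nd (.nd (.nd .lf 10975609 .lf) 10975638 .lf)
  10975641 (.nd (.nd .lf 10975654 .lf) 10975863 .lf)) 10975895 (.nd (.nd (.nd .lf 10978969 .lf)
  10978985 .lf) 10979194 (.nd .lf 10979223 .lf)))) 10979226 (.nd (.nd (.nd (.nd (.nd .lf 10979239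
  .lf) 10979689 .lf) 10979702 (.nd (.nd .lf 10979705 .lf) 10979734 .lf)) 10979943 (.nd (.nd (.nd .lf
  10979959 .lf) 10983033 .lf) 10983065 (.nd .lf 10983274 .lf))) 10983287 (.nd (.nd (.nd (.nd .lf
  10983290 .lf) 10983319 .lf) 10983782 (.nd (.nd .lf 10983798 .lf) 10987113 .lf)) 10987129 (.nd (.nd
  (.nd .lf 10987367 .lf) 10987383 .lf) 11036826 (.nd .lf 11037064 .lf))))) 11037096 (.nd (.nd (.nd
  (.nd (.nd (.nd .lf 11037334 .lf) 11040649 .lf) 11040681 (.nd (.nd .lf 11040890 .lf) 11040903 .lf))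
  11040906 (.nd (.nd (.nd .lf 11040935 .lf) 11041398 .lf) 11041414 (.nd (.nd .lf 11044504 .lf)
  11045224 .lf))) 11048568 (.nd (.nd (.nd (.nd .lf 11048584 .lf) 11048809 .lf) 11049063 (.nd (.nd
  .lf 11102345 .lf) 11102361 .lf)) 11102599 (.nd (.nd (.nd .lf 11102615 .lf) 11106184 .lf) 11106200
  (.nd .lf 11106425 .lf)))) 11106679 (.nd (.nd (.nd (.nd (.nd .lf 11110264 .lf) 11901064 .lf)
  11958680 (.nd (.nd .lf 11962265 .lf) 11962519 .lf)) 11962744 (.nd (.nd (.nd .lf 11962760 .lf)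
  11966329 .lf) 11966345 (.nd .lf 11966583 .lf))) 11966599 (.nd (.nd (.nd (.nd .lf 12023945 .lf)
  12023961 .lf) 12024199 (.nd (.nd .lf 12024215 .lf) 12027784 .lf)) 12027800 (.nd (.nd (.nd .lf
  12028025 .lf) 12028279 .lf) 12031864 (.nd .lf 12089480 .lf))))))

/-- the orbit of `c`, encoded -/
def TE6 : Tr :=
  (.nd (.nd (.nd TE6_0 6977671 TE6_1) 7903081 (.nd TE6_2 8029849 TE6_3)) 8951179 (.nd (.nd TE6_4
  9865879 TE6_5) 9992808 (.nd TE6_6 10918038 TE6_7)))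

/-- **Type `E₆`**, `K` the complement of the branch node. -/
theorem reg_E6 {W : Type*} [Group W] [Finite W] (cs : CoxeterSystem CoxeterMatrix.E₆ W) :
    Odd (Nat.card {w : W // Reg cs {i | (i : ℕ) ≠ 3} w}) := by
  have hm : ∀ n : ℕ, TE6.has n = true → n ∈ TE6.list := fun n => Tr.mem_list
  have h := reg_list isCartan_E6 TE6.list 8951944 (fun i => aE6 i) [16, 22, 30, 42, 30, 16]
    (hm _ (by decide +kernel)) (by decide +kernel)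
    (by
      have h1 : ∀ n ∈ TE6.list, ∀ i : Fin 6, TE6.has (nx (aE6 i) n i) = true := by decide +kernel
      exact fun n hn i => hm _ (h1 n hn i))
    (by
      intro n hn i j
      rw [cartan_E6]
      revert n
      revert i j
      decide +kernel) (by decide +kernel) (by decide +kernel)
    (nodup_of_isChain (by decide +kernel)) cs {i | (i : ℕ) ≠ 3} (by decide +kernel)
  rw [h]
  decide +kernel

end Cfsg.Agent.H568.EB
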